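import Mathlib.AlgebraicGeometry.Morphisms.Separated
import Mathlib.AlgebraicGeometry.Morphisms.FiniteType
import Mathlib.AlgebraicGeometry.Limits
import Mathlib.AlgebraicGeometry.PointsPi

/-!
# Points with values in rings having enough projections
-/

set_option autoImplicit false

universe u v

open CategoryTheory CategoryTheory.Limits AlgebraicGeometry

namespace Groth.Agent.AdPts79

/-- A quasi-compact scheme receives a map from an affine scheme through which every local point lifts. -/
theorem exists_affine_lift (X : Scheme.{u}) [CompactSpace X] :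
    ∃ (V : Scheme.{u}) (_ : IsAffine V) (π : V ⟶ X), ∀ (R : CommRingCat.{u}) [IsLocalRing R] (f : Spec R ⟶ X),
      ∃ g : Spec R ⟶ V, g ≫ π = f := by
  let 𝒰 : X.OpenCover := X.affineCover.finiteSubcover
  refine ⟨∐ 𝒰.X, inferInstance, Sigma.desc 𝒰.f, fun R _ f => ?_⟩
  let i := 𝒰.idx (f (IsLocalRing.closedPoint R))
  have hr : Set.range f ⊆ Set.range (𝒰.f i) := by
    rintro _ ⟨x, rfl⟩
    exact ((IsLocalRing.specializes_closedPoint x).map f.continuous).mem_open
      (𝒰.f _).opensRange.2 (𝒰.covers _)
  refine ⟨IsOpenImmersion.lift (𝒰.f i) f hr ≫ Sigma.ι 𝒰.X i, ?_⟩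
  rw [Category.assoc, Sigma.ι_desc, IsOpenImmersion.lift_fac]

/-- Two points of a separated scheme with values in a ring are equal if they agree after a jointly injective
family of ring maps. -/
theorem ext_of_jointly_injective {ι : Type v} {A : CommRingCat.{u}} {L : ι → CommRingCat.{u}} (p : ∀ i, A ⟶ L i)
    (hp : ∀ a : A, (∀ i, (p i).hom a = 0) → a = 0) {X S : Scheme.{u}} (s : X ⟶ S) [IsSeparated s]
    {x y : Spec A ⟶ X} (hs : x ≫ s = y ≫ s) (h : ∀ i, Spec.map (p i) ≫ x = Spec.map (p i) ≫ y) : x = y := by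
  let T : Over S := Over.mk (x ≫ s)
  let Y : Over S := Over.mk s
  have : IsSeparated Y.hom := ‹_›
  let x' : T ⟶ Y := Over.homMk x
  let y' : T ⟶ Y := Over.homMk y hs.symm
  have hci : IsClosedImmersion (equalizer.ι x' y').left := inferInstance
  obtain ⟨I, e, he⟩ := IsClosedImmersion.Spec_iff.mp hci
  have hI : I = ⊥ := by
    refine le_bot_iff.mp fun a ha => hp a fun i => ?_
    let Ti : Over S := Over.mk (Spec.map (p i) ≫ x ≫ s)
    let q : Ti ⟶ T := Over.homMk (Spec.map (p i))
    have hq : q ≫ x' = q ≫ y' := Over.OverMorphism.ext (h i)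
    have h1 : (equalizer.lift q hq).left ≫ e.hom ≫ Spec.map (CommRingCat.ofHom (Ideal.Quotient.mk I)) =
        Spec.map (p i) := by
      rw [← he, ← Over.comp_left, equalizer.lift_ι]
      rfl
    obtain ⟨r, hr⟩ : ∃ r, Spec.map r = (equalizer.lift q hq).left ≫ e.hom :=
      ⟨_, Spec.map_preimage _⟩
    rw [← Category.assoc, ← hr, ← Spec.map_comp] at h1
    rw [← Spec.map_injective h1, CommRingCat.hom_comp, RingHom.comp_apply]
    simp [Ideal.Quotient.eq_zero_iff_mem.mpr ha]
  subst hI
  have : IsIso (equalizer.ι x' y').left := by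
    rw [he]
    convert_to! IsIso (e.hom ≫ Spec.map (RingEquiv.quotientBot _).toCommRingCatIso.inv)
    infer_instance
  have := congrArg CommaMorphism.left (equalizer.condition x' y')
  rw [← cancel_epi (equalizer.ι x' y').left]
  simpa using! this

end Groth.Agent.AdPts79
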