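import Groth.Prelude.Def_AdFn
import Groth.Agent.AdPts79.Generic

/-!
# Points of a scheme of finite type with values in the adele ring
-/

set_option autoImplicit false

universe u

open CategoryTheory CategoryTheory.Limits AlgebraicGeometry

namespace Groth.Agent.AdPts79

variable {k K : Type u} [Field k] [Field K] [Algebra k K] [AdFn.HasFinitePoles k K]
  (S : Set (FunFld.Place k K))

theorem adele_ext {a : AdFn.AdeleRing k K} (h : ∀ v, AdFn.AdeleRing.proj v a = 0) : a = 0 :=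
  Subtype.ext (funext h)

/-- The `v`-components of an adelic point. -/
theorem ext_point {X : Over (Spec (CommRingCat.of (AdFn.SInt S)))} [IsSeparated X.hom]
    {x y : AdFn.specOf (AdFn.SInt.toAd S) ⟶ X}
    (h : ∀ v, AdFn.adProjSHom S v ≫ x = AdFn.adProjSHom S v ≫ y) : x = y := by
  refine Over.OverMorphism.ext (ext_of_jointly_injective
    (fun v => CommRingCat.ofHom (AdFn.AdeleRing.proj (k := k) (K := K) v)) (fun a ha => adele_ext ha) X.hom ?_ ?_)
  · exact (Over.w x).trans (Over.w y).symm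
  · intro v
    exact congrArg CommaMorphism.left (h v)

/-- An adelic point is integral at almost all places. -/
theorem eventually_integral {X : Over (Spec (CommRingCat.of (AdFn.SInt S)))} [LocallyOfFiniteType X.hom]
    (x : AdFn.specOf (AdFn.SInt.toAd S) ⟶ X) :
    ∀ᶠ v in Filter.cofinite, ∀ hv : v ∉ S, ∃ q : AdFn.specOf (AdFn.SInt.toOv S hv) ⟶ X,
      AdFn.intResHom S hv ≫ q = AdFn.adProjSHom S v ≫ x := by
  classical
  let P : Spec (CommRingCat.of (AdFn.AdeleRing k K)) ⟶ X.left := x.left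
  let s : Set (AdFn.AdeleRing k K) :=
    {f | ∃ U : X.left.affineOpens, ((PrimeSpectrum.basicOpen f : TopologicalSpace.Opens (PrimeSpectrum (AdFn.AdeleRing k K))) : Set (PrimeSpectrum (AdFn.AdeleRing k K))) ⊆ P ⁻¹' U.1.1}
  have hs : Ideal.span s = ⊤ := by
    by_contra hne
    obtain ⟨m, hm, hsm⟩ := Ideal.exists_le_maximal _ hne
    let pt : PrimeSpectrum (AdFn.AdeleRing k K) := ⟨m, hm.isPrime⟩
    obtain ⟨U, hU, hpU, -⟩ := exists_isAffineOpen_mem_and_subset (x := P pt) (U := ⊤) (by trivial)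
    obtain ⟨_, ⟨f, rfl⟩, hf, hfs⟩ := PrimeSpectrum.isTopologicalBasis_basic_opens.exists_subset_of_mem_open
      (a := pt) hpU (U.2.preimage P.continuous)
    exact hf (hsm (Ideal.subset_span ⟨⟨U, hU⟩, hfs⟩))
  obtain ⟨t, hts, ht⟩ := Submodule.mem_span_finite_of_mem_span ((Ideal.eq_top_iff_one _).1 hs)
  obtain ⟨c, -, hc⟩ := Submodule.mem_span_finset.1 ht
  have key : ∀ f ∈ t, ∀ᶠ v in Filter.cofinite, ∀ hv : v ∉ S, Valued.v (AdFn.AdeleRing.proj v f) = 1 →
      ∃ q : AdFn.specOf (AdFn.SInt.toOv S hv) ⟶ X, AdFn.intResHom S hv ≫ q = AdFn.adProjSHom S v ≫ x := by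
    intro f hf
    obtain ⟨⟨U, hU⟩, hfU⟩ := hts hf
    let Af := CommRingCat.of (Localization.Away f)
    let j : Spec Af ⟶ Spec (CommRingCat.of (AdFn.AdeleRing k K)) :=
      Spec.map (CommRingCat.ofHom (algebraMap _ _))
    have hr : Set.range (j ≫ P) ⊆ Set.range hU.fromSpec := by
      rw [hU.range_fromSpec]
      rintro _ ⟨z, rfl⟩
      refine hfU ?_
      have := PrimeSpectrum.localization_away_comap_range (Localization.Away f) f
      exact this.le ⟨z, rfl⟩
    obtain ⟨φ, hφ⟩ : ∃ φ, Spec.map φ = IsOpenImmersion.lift hU.fromSpec (j ≫ P) hr := ⟨_, Spec.map_preimage _⟩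
    have hφ' : Spec.map φ ≫ hU.fromSpec = j ≫ P := by rw [hφ, IsOpenImmersion.lift_fac]
    obtain ⟨σ, hσ⟩ : ∃ σ, Spec.map σ = hU.fromSpec ≫ X.hom := ⟨_, Spec.map_preimage _⟩
    have hft : σ.hom.FiniteType := by
      rw [← HasRingHomProperty.Spec_iff (P := @LocallyOfFiniteType), hσ]
      infer_instance
    letI := σ.hom.toAlgebra
    obtain ⟨G, hG⟩ := hft.out
    have hb : ∀ b, ∃ (a : AdFn.AdeleRing k K) (n : ℕ),
        φ.hom b * algebraMap _ (Localization.Away f) (f ^ n) = algebraMap _ (Localization.Away f) a := fun b => by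
      obtain ⟨n, a, h⟩ := IsLocalization.Away.surj (S := Localization.Away f) f (φ.hom b)
      exact ⟨a, n, (congrArg _ (RingHom.map_pow _ f n)).trans h⟩
    choose a n ha using hb
    have hE : ∀ᶠ v in Filter.cofinite, ∀ b ∈ G, AdFn.AdeleRing.proj v (a b) ∈ AdFn.Ov v :=
      (G.eventually_all).2 fun b _ => (a b).2
    filter_upwards [hE] with v hv hvS hf1
    have hf0 : AdFn.AdeleRing.proj v f ≠ 0 := by
      intro h0
      rw [h0, map_zero] at hf1
      exact zero_ne_one hf1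
    let lf : Localization.Away f →+* AdFn.Kv v :=
      IsLocalization.Away.lift (S := Localization.Away f) f (g := AdFn.AdeleRing.proj v) (isUnit_iff_ne_zero.2 hf0)
    have hlf : lf.comp (algebraMap _ _) = AdFn.AdeleRing.proj v := IsLocalization.Away.lift_comp _ _
    let ψ : Γ(X.left, U) ⟶ CommRingCat.of (AdFn.Kv v) := φ ≫ CommRingCat.ofHom lf
    have hψ : Spec.map ψ ≫ hU.fromSpec = (AdFn.adProjSHom S v ≫ x).left := by
      rw [Spec.map_comp, Category.assoc, hφ', ← Category.assoc, ← Spec.map_comp, ← CommRingCat.ofHom_comp, hlf]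
      rfl
    have hψσ : σ ≫ ψ = CommRingCat.ofHom (AdFn.SInt.toKv S v) := by
      apply Spec.map_injective
      rw [Spec.map_comp, hσ, ← Category.assoc, hψ]
      exact Over.w (AdFn.adProjSHom S v ≫ x)
    have hint : ∀ b, ψ.hom b ∈ AdFn.Ov v := by
      intro b
      have hb : b ∈ Algebra.adjoin (AdFn.SInt S) (G : Set Γ(X.left, U)) := hG ▸ Algebra.mem_top
      induction hb using Algebra.adjoin_induction with
      | mem b hb =>
        have h := congrArg lf (ha b)
        have hl : ∀ x, lf (algebraMap _ _ x) = AdFn.AdeleRing.proj v x := RingHom.congr_fun hlf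
        rw [map_mul, hl, hl, map_pow] at h
        have h' := congrArg Valued.v h
        rw [map_mul, map_pow, hf1, one_pow, mul_one] at h'
        rw [AdFn.mem_Ov]
        exact le_of_eq_of_le h' ((AdFn.mem_Ov v _).1 (hv b hb))
      | algebraMap r =>
        exact (congrArg (fun φ : CommRingCat.of (AdFn.SInt S) ⟶ CommRingCat.of (AdFn.Kv v) => φ.hom r) hψσ).symm ▸
          (AdFn.toKv_mem_Ov v r.1).2 (r.2 v hvS)
      | add b b' _ _ h h' => rw [map_add]; exact add_mem h h'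
      | mul b b' _ _ h h' => rw [map_mul]; exact mul_mem h h'
    let ψ₀ : Γ(X.left, U) ⟶ CommRingCat.of (AdFn.Ov v) :=
      CommRingCat.ofHom (ψ.hom.codRestrict (AdFn.Ov v).toSubring hint)
    refine ⟨Over.homMk (Spec.map ψ₀ ≫ hU.fromSpec) ?_, Over.OverMorphism.ext ?_⟩
    · rw [Category.assoc, ← hσ, ← Spec.map_comp]
      refine congrArg Spec.map (CommRingCat.hom_ext (RingHom.ext fun r => Subtype.ext ?_))
      exact congrArg (fun φ : CommRingCat.of (AdFn.SInt S) ⟶ CommRingCat.of (AdFn.Kv v) => φ.hom r) hψσ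
    · show Spec.map (CommRingCat.ofHom (AdFn.Ov v).subtype) ≫ Spec.map ψ₀ ≫ hU.fromSpec = _
      rw [← Category.assoc, ← Spec.map_comp, ← hψ]
      rfl
  have hall : ∀ᶠ v in Filter.cofinite, (∀ f ∈ t, AdFn.AdeleRing.proj v f ∈ AdFn.Ov v) ∧
      (∀ f ∈ t, AdFn.AdeleRing.proj v (c f) ∈ AdFn.Ov v) ∧ ∀ f ∈ t, ∀ hv : v ∉ S,
        Valued.v (AdFn.AdeleRing.proj v f) = 1 → ∃ q : AdFn.specOf (AdFn.SInt.toOv S hv) ⟶ X,
          AdFn.intResHom S hv ≫ q = AdFn.adProjSHom S v ≫ x :=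
    ((t.eventually_all).2 fun f _ => f.2).and
      (((t.eventually_all).2 fun f _ => (c f).2).and ((t.eventually_all).2 key))
  filter_upwards [hall] with v ⟨h1, h2, h3⟩ hv
  obtain ⟨f, hf, hf1⟩ : ∃ f ∈ t, Valued.v (AdFn.AdeleRing.proj v f) = 1 := by
    by_contra! hlt
    have h := congrArg (fun a => Valued.v (AdFn.AdeleRing.proj v a)) hc
    simp only [map_sum, map_one, smul_eq_mul, map_mul] at h
    refine (ne_of_lt (Valued.v.map_sum_lt one_ne_zero fun f hf => ?_)) h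
    rw [map_mul]
    calc _ ≤ 1 * Valued.v (AdFn.AdeleRing.proj v f) := mul_le_mul' ((AdFn.mem_Ov v _).1 (h2 f hf)) le_rfl
      _ < 1 := by rw [one_mul]; exact lt_of_le_of_ne ((AdFn.mem_Ov v _).1 (h1 f hf)) (hlt f hf)
  exact h3 f hf hv hf1

/-- A family of local points, integral at almost all places, comes from an adelic point. -/
theorem exists_point {X : Over (Spec (CommRingCat.of (AdFn.SInt S)))} [QuasiCompact X.hom]
    (y : ∀ v, AdFn.specOf (AdFn.SInt.toKv S v) ⟶ X)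
    (hy : ∀ᶠ v in Filter.cofinite, ∃ (hv : v ∉ S) (q : AdFn.specOf (AdFn.SInt.toOv S hv) ⟶ X),
      AdFn.intResHom S hv ≫ q = y v) :
    ∃ x : AdFn.specOf (AdFn.SInt.toAd S) ⟶ X, ∀ v, AdFn.adProjSHom S v ≫ x = y v := by
  classical
  have : CompactSpace X.left := QuasiCompact.compactSpace_of_compactSpace X.hom
  obtain ⟨V, hV, π, hπ⟩ := exists_affine_lift X.left
  have H : ∀ v, ∃ a : Γ(V, ⊤) ⟶ CommRingCat.of (AdFn.Kv v),
      (Spec.map a ≫ V.isoSpec.inv) ≫ π = (y v).left ∧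
      ((∃ (hv : v ∉ S) (q : AdFn.specOf (AdFn.SInt.toOv S hv) ⟶ X), AdFn.intResHom S hv ≫ q = y v) →
        ∀ b, a.hom b ∈ AdFn.Ov v) := by
    intro v
    by_cases h : ∃ (hv : v ∉ S) (q : AdFn.specOf (AdFn.SInt.toOv S hv) ⟶ X), AdFn.intResHom S hv ≫ q = y v
    · obtain ⟨hv, q, hq⟩ := h
      obtain ⟨z, hz⟩ := hπ (CommRingCat.of (AdFn.Ov v)) q.left
      obtain ⟨a₀, ha₀⟩ : ∃ a₀, Spec.map a₀ = z ≫ V.isoSpec.hom := ⟨_, Spec.map_preimage _⟩
      refine ⟨a₀ ≫ CommRingCat.ofHom (AdFn.Ov v).subtype, ?_, fun _ b => (a₀.hom b).2⟩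
      rw [Spec.map_comp, ha₀, Category.assoc, Category.assoc, Category.assoc, Iso.hom_inv_id_assoc, hz, ← hq]
      rfl
    · obtain ⟨z, hz⟩ := hπ (CommRingCat.of (AdFn.Kv v)) (y v).left
      obtain ⟨a₀, ha₀⟩ : ∃ a₀, Spec.map a₀ = z ≫ V.isoSpec.hom := ⟨_, Spec.map_preimage _⟩
      refine ⟨a₀, ?_, fun h' => absurd h' h⟩
      rw [ha₀, Category.assoc, Category.assoc, Iso.hom_inv_id_assoc, hz]
  choose a ha haint using H
  have hmem : ∀ b, ∀ᶠ v in Filter.cofinite, (a v).hom b ∈ (AdFn.Ov v : Set (AdFn.Kv v)) := fun b =>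
    hy.mono fun v h => haint v h b
  let α : Γ(V, ⊤) →+* AdFn.AdeleRing k K :=
    { toFun := fun b => ⟨fun v => (a v).hom b, hmem b⟩
      map_one' := Subtype.ext <| funext fun _ => map_one _
      map_mul' := fun _ _ => Subtype.ext <| funext fun _ => map_mul _ _ _
      map_zero' := Subtype.ext <| funext fun _ => map_zero _
      map_add' := fun _ _ => Subtype.ext <| funext fun _ => map_add _ _ _ }
  have hα : ∀ v, CommRingCat.ofHom α ≫ CommRingCat.ofHom (AdFn.AdeleRing.proj v) = a v := fun v => rfl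
  obtain ⟨τ, hτ⟩ : ∃ τ, Spec.map τ = V.isoSpec.inv ≫ π ≫ X.hom := ⟨_, Spec.map_preimage _⟩
  have hτα : τ ≫ CommRingCat.ofHom α = CommRingCat.ofHom (AdFn.SInt.toAd S) := by
    refine CommRingCat.hom_ext (RingHom.ext fun r => Subtype.ext (funext fun v => ?_))
    have h : τ ≫ a v = CommRingCat.ofHom (AdFn.SInt.toKv S v) := by
      apply Spec.map_injective
      rw [Spec.map_comp, hτ, ← Category.assoc, ← Category.assoc, ha]
      exact Over.w (y v)
    exact congrArg (fun φ : CommRingCat.of (AdFn.SInt S) ⟶ CommRingCat.of (AdFn.Kv v) => φ.hom r) h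
  refine ⟨Over.homMk (Spec.map (CommRingCat.ofHom α) ≫ V.isoSpec.inv ≫ π) ?_, fun v => Over.OverMorphism.ext ?_⟩
  · rw [Category.assoc, Category.assoc, ← hτ, ← Spec.map_comp, hτα]
    rfl
  · show Spec.map (CommRingCat.ofHom (AdFn.AdeleRing.proj v)) ≫
      Spec.map (CommRingCat.ofHom α) ≫ V.isoSpec.inv ≫ π = _
    rw [← ha v, ← hα v, Spec.map_comp]
    simp only [Category.assoc]

end Groth.Agent.AdPts79
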