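import Groth.Agent.HZero79.Basic
import Groth.Prelude.Def_CGrpSh2

/-!
# Degree zero cohomology of a sheaf of points is the group of points
-/

set_option autoImplicit false

universe u

open CategoryTheory CategoryTheory.Limits AlgebraicGeometry Opposite

namespace Groth.Agent.AdPts79

variable {S : Scheme.{u}} (P : Precoverage Scheme.{u}) [(QuotSh.J P S).Subcanonical]
  (G : Over S) [GrpObj G] [IsCommMonObj G]

/-- `H⁰(T, G)` is the group of `T`-points of `G`. -/
noncomputable def ptH0 (T : Over S) : BigSite.HU P (CGrpSh.pts P G) 0 T ≃ (T ⟶ G) :=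
  (HZero79.secHU (CGrpSh.pts P G) T).toEquiv.trans
    (Equiv.ulift.{u + 1}.trans (Additive.toMul (α := T ⟶ G)))

theorem ptH0_resHU {T T' : Over S} (g : T' ⟶ T) (x : BigSite.HU P (CGrpSh.pts P G) 0 T) :
    ptH0 P G T' (HRes.resHU P (CGrpSh.pts P G) 0 g x) = g ≫ ptH0 P G T x := by
  have h := HZero79.secHU_resHU (CGrpSh.pts P G) g x
  exact congrArg (fun z => Additive.toMul (ULift.down z)) h

end Groth.Agent.AdPts79
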